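import Groth.Agent.Lib.InfAut3.Build

/-!
# Infinitesimal automorphisms of the trivial first-order deformation
-/

set_option autoImplicit false
set_option linter.style.haveILetI false
set_option backward.isDefEq.respectTransparency.types false

universe u

open CategoryTheory CategoryTheory.Limits AlgebraicGeometry IsLocalRing TopologicalSpace Opposite

namespace Groth.Agent.InfAut3

open ArtFun ArtFun.Art HilbRS3 HilbObs3 HomTan3

variable {k : Type u} [Field k] {X : Scheme.{u}} {x : X ⟶ Art.specPt k}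

/-- The endomorphism of the thickening of an extension of the identity. -/
noncomputable def L (g : Ext1 x x (𝟙 X) (dual k k)) : XA x (dual k k) ⟶ XA x (dual k k) :=
  pullback.lift g.1 (XApr x (dual k k)) (g.2.2.trans pullback.condition)

theorem L_fst (g : Ext1 x x (𝟙 X) (dual k k)) : L g ≫ pullback.fst x (specOver (dual k k)) = g.1 :=
  pullback.lift_fst _ _ _

theorem L_snd (g : Ext1 x x (𝟙 X) (dual k k)) : L g ≫ XApr x (dual k k) = XApr x (dual k k) :=
  pullback.lift_snd _ _ _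

theorem incl_L (g : Ext1 x x (𝟙 X) (dual k k)) : XAincl x (dual k k) ≫ L g = XAincl x (dual k k) := by
  refine pullback.hom_ext ?_ ?_
  · rw [Category.assoc, L_fst, g.2.1, XAincl_fst]
  · rw [Category.assoc, L_snd]

/-- Composition. -/
noncomputable def cmp (g h : Ext1 x x (𝟙 X) (dual k k)) : Ext1 x x (𝟙 X) (dual k k) :=
  ⟨L g ≫ h.1, by rw [← Category.assoc, incl_L, h.2.1],
    by rw [Category.assoc, h.2.2, reassoc_of% (L_fst g), g.2.2]⟩

variable (x) in
/-- The identity. -/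
noncomputable def one : Ext1 x x (𝟙 X) (dual k k) :=
  ⟨pullback.fst x (specOver (dual k k)), XAincl_fst x _, rfl⟩

theorem L_one : L (one x) = 𝟙 (XA x (dual k k)) :=
  pullback.hom_ext ((L_fst _).trans (Category.id_comp _).symm) ((L_snd _).trans (Category.id_comp _).symm)

theorem L_cmp (g h : Ext1 x x (𝟙 X) (dual k k)) : L (cmp g h) = L g ≫ L h := by
  refine pullback.hom_ext ?_ ?_
  · rw [L_fst, Category.assoc, L_fst]; rfl
  · rw [L_snd, Category.assoc, L_snd, L_snd]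

theorem cmp_one (g : Ext1 x x (𝟙 X) (dual k k)) : cmp g (one x) = g := Subtype.ext (L_fst g)

theorem ddS_cmp (g h : Ext1 x x (𝟙 X) (dual k k)) {U : X.affineOpens} {V : X.Opens}
    (hle : U.1 ≤ (𝟙 X : X ⟶ X) ⁻¹ᵁ V) (s : Γ(X, V)) :
    ddS x U (gS (cmp g h) hle s) = ddS x U (gS g hle s) + ddS x U (gS h hle s) := by
  have hUU : U.1 ≤ (𝟙 X : X ⟶ X) ⁻¹ᵁ U.1 := le_rfl
  have hUV : U.1 ≤ V := hle
  have hcl : (chart x (dual k k) U).1 ≤ L g ⁻¹ᵁ (chart x (dual k k) U).1 := fun p hp => by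
    show pullback.fst x (specOver (dual k k)) (L g p) ∈ U.1
    rw [← Scheme.Hom.comp_apply, L_fst]
    exact chart_le g hUU hp
  let θ := ((L g).appLE (chart x (dual k k) U).1 (chart x (dual k k) U).1 hcl).hom
  have h1 : gS (cmp g h) hle s = θ (gS h hle s) := by
    show ((L g ≫ h.1).appLE V (chart x (dual k k) U).1 (chart_le (cmp g h) hle)).hom s =
      (h.1.appLE V (chart x (dual k k) U).1 (chart_le h hle) ≫
        (L g).appLE (chart x (dual k k) U).1 (chart x (dual k k) U).1 hcl).hom s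
    rw [Scheme.Hom.appLE_comp_appLE]
  have h2 : ∀ a, θ (cι x (dual k k) U a) = gS g hUU a := fun a => by
    have e1 : (pullback.fst x (specOver (dual k k))).appLE U.1 (chart x (dual k k) U).1 le_rfl ≫
        (L g).appLE (chart x (dual k k) U).1 (chart x (dual k k) U).1 hcl =
          g.1.appLE U.1 (chart x (dual k k) U).1 (chart_le g hUU) := by
      rw [Scheme.Hom.appLE_comp_appLE]
      simp only [L_fst]
    have e2 : cι x (dual k k) U a =
        ((pullback.fst x (specOver (dual k k))).appLE U.1 (chart x (dual k k) U).1 le_rfl).hom a :=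
      congrArg (fun m : Γ(X, U.1) ⟶ Γ(XA x (dual k k), (chart x (dual k k) U).1) => m.hom a)
        (Scheme.Hom.app_eq_appLE _)
    rw [e2]
    exact congrArg (fun m : Γ(X, U.1) ⟶ Γ(XA x (dual k k), (chart x (dual k k) U).1) => m.hom a) e1
  have h3 : θ (cσ x (dual k k) U (eps k)) = cσ x (dual k k) U (eps k) := by
    have h4 : (XApr x (dual k k)).appLE ⊤ (chart x (dual k k) U).1 le_top ≫ (L g).appLE _ _ hcl =
        (XApr x (dual k k)).appLE ⊤ (chart x (dual k k) U).1 le_top := by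
      rw [Scheme.Hom.appLE_comp_appLE]
      simp only [L_snd]
    exact congrArg (fun m : Γ(Spec (CommRingCat.of (dual k k : Art k k)), ⊤) ⟶
      Γ(XA x (dual k k), (chart x (dual k k) U).1) => m.hom
        ((Scheme.ΓSpecIso (CommRingCat.of (dual k k : Art k k))).inv (eps k))) h4
  have hid : ∀ a : Γ(X, U.1), (𝟙 X : X ⟶ X).appLE U.1 U.1 hUU a = a := fun a => by
    have e : (𝟙 X : X ⟶ X).appLE U.1 U.1 hUU = 𝟙 _ := by
      rw [Scheme.Hom.appLE]
      erw [Category.id_comp]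
      exact X.presheaf.map_id _
    exact congrArg (fun m : Γ(X, U.1) ⟶ Γ(X, U.1) => m.hom a) e
  have hres : gS g hUU ((𝟙 X : X ⟶ X).appLE V U.1 hle s) = gS g hle s := by
    show ((𝟙 X : X ⟶ X).appLE V U.1 hle ≫ g.1.appLE U.1 _ (chart_le g hUU)).hom s = _
    rw [Scheme.Hom.appLE_comp_appLE]
    simp only [Category.comp_id]
    rfl
  have hsq : cσ x (dual k k) U (eps k) * cσ x (dual k k) U (eps k) = 0 := by
    rw [← map_mul, HomTan3.eps_sq, map_zero]
  refine ddS_eq x U (a := cι₀ x (dual k k) U (gS g hle s)) ?_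
  have hg := ddS_spec x U (gS g hle s)
  have hh := ddS_spec x U (gS h hle s)
  rw [cι₀_gS] at hh
  generalize ddS x U (gS h hle s) = rh at hh ⊢
  have hr := ddS_spec x U (gS g hUU rh)
  rw [cι₀_gS, hid] at hr
  rw [h1, hh, map_add, map_mul, h3, h2, h2, hres, hr, map_add]
  linear_combination hg + cι x (dual k k) U (ddS x U (gS g hUU rh)) * hsq

theorem Φ_cmp [QuasiSeparated x] (g h : Ext1 x x (𝟙 X) (dual k k)) : Φ (cmp g h) = Φ g + Φ h :=
  hom_ext_charts fun V U hle s => by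
    show _ = X.presheaf.map (homOfLE hle).op
      ((show Γ(X, (𝟙 X : X ⟶ X) ⁻¹ᵁ V.1) from (Φ g).app V.1 (OmegaSh.dSect x V.1 s)) +
        (show Γ(X, (𝟙 X : X ⟶ X) ⁻¹ᵁ V.1) from (Φ h).app V.1 (OmegaSh.dSect x V.1 s)))
    rw [map_add, Φ_spec, Φ_spec, Φ_spec, ddS_cmp]

theorem Φ_bijective [QuasiSeparated x] :
    Function.Bijective (Φ : Ext1 x x (𝟙 X) (dual k k) → _) := by
  refine ⟨Φ_injective, fun α => ?_⟩
  obtain ⟨g, hg⟩ := exists_ext1_noSep x x (𝟙 X) α (Category.id_comp x)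
  exact ⟨g, hom_ext_charts fun V U h s => by rw [Φ_spec, hg U V h s, ddS_tw]; rfl⟩

theorem exists_equiv [QuasiSeparated x] {Xe : Scheme.{u}} (q : Xe ⟶ X) (p : Xe ⟶ Art.spec (dual k k : Art k k))
    (hsq : IsPullback q p x (specOver (dual k k))) (i : X ⟶ Xe) (hiq : i ≫ q = 𝟙 X)
    (hip : i ≫ p = x ≫ specRes (dual k k)) :
    ∃ e : {φ : Xe ≅ Xe // φ.hom ≫ p = p ∧ i ≫ φ.hom = i} ≃ (Omega.sheaf x ⟶ Coh.structureModule X),
      ∀ φ ψ χ : {φ : Xe ≅ Xe // φ.hom ≫ p = p ∧ i ≫ φ.hom = i},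
        φ.1 ≪≫ ψ.1 = χ.1 → e χ = e φ + e ψ := by
  let j := hsq.isoPullback
  have jf : j.hom ≫ pullback.fst x (specOver (dual k k)) = q := hsq.isoPullback_hom_fst
  have js : j.hom ≫ XApr x (dual k k) = p := hsq.isoPullback_hom_snd
  have ji : i ≫ j.hom = XAincl x (dual k k) := by
    refine pullback.hom_ext ?_ ?_
    · rw [Category.assoc, jf, hiq, XAincl_fst]
    · rw [Category.assoc, js, hip, XAincl_snd]
  have ij : XAincl x (dual k k) ≫ j.inv = i := by rw [← ji, Category.assoc, Iso.hom_inv_id, Category.comp_id]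
  let A := {φ : Xe ≅ Xe // φ.hom ≫ p = p ∧ i ≫ φ.hom = i}
  let t : A → Ext1 x x (𝟙 X) (dual k k) := fun φ => ⟨j.inv ≫ φ.1.hom ≫ q,
    by rw [← Category.assoc, ij, ← Category.assoc, φ.2.2, hiq],
    by rw [Category.assoc, Category.assoc, hsq.w, reassoc_of% φ.2.1, ← hsq.w, ← jf, Category.assoc,
      Iso.inv_hom_id_assoc]⟩
  have hLt : ∀ φ : A, L (t φ) = j.inv ≫ φ.1.hom ≫ j.hom := fun φ => by
    refine pullback.hom_ext ?_ ?_
    · rw [L_fst, Category.assoc, Category.assoc, jf]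
    · rw [L_snd, Category.assoc, Category.assoc, js, φ.2.1, ← js, Iso.inv_hom_id_assoc]
  have htcmp : ∀ φ ψ χ : A, φ.1 ≪≫ ψ.1 = χ.1 → t χ = cmp (t φ) (t ψ) := fun φ ψ χ hc => Subtype.ext (by
    show j.inv ≫ χ.1.hom ≫ q = L (t φ) ≫ j.inv ≫ ψ.1.hom ≫ q
    rw [hLt, ← hc]; simp)
  have h1 : Φ (one x) = 0 := by
    have := Φ_cmp (one x) (one x)
    rwa [cmp_one, left_eq_add] at this
  have hinv : ∀ g h : Ext1 x x (𝟙 X) (dual k k), Φ g + Φ h = 0 → L g ≫ L h = 𝟙 _ := fun g h hz => by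
    rw [← L_cmp, show cmp g h = one x from Φ_bijective.1 (by rw [Φ_cmp, hz, h1]), L_one]
  have htb : Function.Bijective t := by
    refine ⟨fun φ ψ hφψ => Subtype.ext (Iso.ext ?_), fun g => ?_⟩
    · have h := (hLt φ).symm.trans ((congrArg L hφψ).trans (hLt ψ))
      rwa [cancel_epi, cancel_mono] at h
    · obtain ⟨h, hh⟩ := Φ_bijective.2 (-Φ g)
      let η : Xe ≅ Xe := j ≪≫ ⟨L g, L h, hinv g h (by rw [hh]; exact add_neg_cancel _),
        hinv h g (by rw [hh]; exact neg_add_cancel _)⟩ ≪≫ j.symm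
      refine ⟨⟨η, ?_, ?_⟩, Subtype.ext ?_⟩
      · show (j.hom ≫ L g ≫ j.inv) ≫ p = p
        rw [← js, Category.assoc, Category.assoc, Iso.inv_hom_id_assoc, L_snd]
      · show i ≫ j.hom ≫ L g ≫ j.inv = i
        rw [← Category.assoc, ji, ← Category.assoc, incl_L, ij]
      · show j.inv ≫ (j.hom ≫ L g ≫ j.inv) ≫ q = g.1
        rw [← jf]; simp [L_fst]
  let P : fO (𝟙 X) ≅ Coh.structureModule X := (Scheme.Modules.pushforwardId X).app _
  let c : (Omega.sheaf x ⟶ fO (𝟙 X)) ≃ (Omega.sheaf x ⟶ Coh.structureModule X) :=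
    { toFun := fun α => α ≫ P.hom, invFun := fun α => α ≫ P.inv,
      left_inv := fun α => by simp, right_inv := fun α => by simp }
  refine ⟨((Equiv.ofBijective t htb).trans (Equiv.ofBijective Φ Φ_bijective)).trans c, fun φ ψ χ hc => ?_⟩
  show Φ (t χ) ≫ P.hom = Φ (t φ) ≫ P.hom + Φ (t ψ) ≫ P.hom
  rw [htcmp φ ψ χ hc, Φ_cmp, Preadditive.add_comp]

end Groth.Agent.InfAut3
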